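import Cfsg.Prelude.Def_ChevG2

/-! A model of the Lie algebra of type `G₂` adapted to `A₁ × A₁`. -/

set_option autoImplicit false

namespace G2

open Cfsg.Lie Matrix

/-- `sl₂ ⊕ sl₂ ⊕ (2 ⊗ S³)` -/
@[ext] structure M (F : Type*) where
  (p0 p1 p2 q0 q1 q2 c0 c1 c2 c3 d0 d1 d2 d3 : F)

variable {F : Type*} [Field F]

def X0 (t : F) (x : M F) : M F :=
  ⟨x.p0 - t * x.p1,
   x.p1,
   x.p2 + 2 * t * x.p0 - t ^ 2 * x.p1,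
   x.q0,
   x.q1,
   x.q2,
   x.c0,
   x.c1,
   x.c2,
   x.c3,
   x.d0 + t * x.c0,
   x.d1 + t * x.c1,
   x.d2 + t * x.c2,
   x.d3 + t * x.c3⟩

def X1 (t : F) (x : M F) : M F :=
  ⟨x.p0 - t * x.c3,
   x.p1,
   x.p2 - 2 * t * x.d3,
   x.q0 - t * x.c3,
   x.q1,
   x.q2 - 2 * t * x.c2,
   x.c0 - 2 * t * x.p1,
   x.c1,
   x.c2,
   x.c3,
   x.d0 + 2 * t * x.p0 + 6 * t * x.q0 - 4 * t ^ 2 * x.c3,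
   x.d1 - 2 * t * x.q1,
   x.d2,
   x.d3⟩

def X2 (t : F) (x : M F) : M F :=
  ⟨x.p0 - 3 * t * x.c2,
   x.p1,
   x.p2 - 6 * t * x.d2 - 12 * t ^ 2 * x.q1 + 8 * t ^ 3 * x.c3,
   x.q0 - t * x.c2,
   x.q1 - 2 * t * x.c3,
   x.q2 - 4 * t * x.c1 - 4 * t ^ 2 * x.p1,
   x.c0,
   x.c1 + 2 * t * x.p1,
   x.c2,
   x.c3,
   x.d0 + 6 * t * x.q2 - 12 * t ^ 2 * x.c1 - 8 * t ^ 3 * x.p1,
   x.d1 - 2 * t * x.p0 - 2 * t * x.q0 + 4 * t ^ 2 * x.c2,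
   x.d2 + 4 * t * x.q1 - 4 * t ^ 2 * x.c3,
   x.d3⟩

def X3 (t : F) (x : M F) : M F :=
  ⟨x.p0 + 3 * t * x.c1,
   x.p1,
   x.p2 + 6 * t * x.d1 + 12 * t ^ 2 * x.q2 + 8 * t ^ 3 * x.c0,
   x.q0 - t * x.c1,
   x.q1 + 4 * t * x.c2 + 4 * t ^ 2 * x.p1,
   x.q2 + 2 * t * x.c0,
   x.c0,
   x.c1,
   x.c2 + 2 * t * x.p1,
   x.c3,
   x.d0,
   x.d1 + 4 * t * x.q2 + 4 * t ^ 2 * x.c0,
   x.d2 - 2 * t * x.p0 + 2 * t * x.q0 - 4 * t ^ 2 * x.c1,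
   x.d3 + 6 * t * x.q1 + 12 * t ^ 2 * x.c2 + 8 * t ^ 3 * x.p1⟩

def X4 (t : F) (x : M F) : M F :=
  ⟨x.p0,
   x.p1,
   x.p2,
   x.q0 - t * x.q1,
   x.q1,
   x.q2 + 2 * t * x.q0 - t ^ 2 * x.q1,
   x.c0 + 3 * t * x.c1 + 3 * t ^ 2 * x.c2 + t ^ 3 * x.c3,
   x.c1 + 2 * t * x.c2 + t ^ 2 * x.c3,
   x.c2 + t * x.c3,
   x.c3,
   x.d0 + 3 * t * x.d1 + 3 * t ^ 2 * x.d2 + t ^ 3 * x.d3,
   x.d1 + 2 * t * x.d2 + t ^ 2 * x.d3,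
   x.d2 + t * x.d3,
   x.d3⟩

def X5 (t : F) (x : M F) : M F :=
  ⟨x.p0 - t * x.c0,
   x.p1,
   x.p2 - 2 * t * x.d0,
   x.q0 + t * x.c0,
   x.q1 - 2 * t * x.c1,
   x.q2,
   x.c0,
   x.c1,
   x.c2,
   x.c3 + 2 * t * x.p1,
   x.d0,
   x.d1,
   x.d2 + 2 * t * x.q2,
   x.d3 - 2 * t * x.p0 + 6 * t * x.q0 + 4 * t ^ 2 * x.c0⟩

def X6 (t : F) (x : M F) : M F :=
  ⟨x.p0 - t * x.d3,
   x.p1 + 2 * t * x.c3,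
   x.p2,
   x.q0 + t * x.d3,
   x.q1,
   x.q2 + 2 * t * x.d2,
   x.c0 - 2 * t * x.p0 + 6 * t * x.q0 + 4 * t ^ 2 * x.d3,
   x.c1 - 2 * t * x.q1,
   x.c2,
   x.c3,
   x.d0 - 2 * t * x.p2,
   x.d1,
   x.d2,
   x.d3⟩

def X7 (t : F) (x : M F) : M F :=
  ⟨x.p0,
   x.p1,
   x.p2,
   x.q0 + t * x.q2,
   x.q1 - 2 * t * x.q0 - t ^ 2 * x.q2,
   x.q2,
   x.c0,
   x.c1 + t * x.c0,
   x.c2 + 2 * t * x.c1 + t ^ 2 * x.c0,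
   x.c3 + 3 * t * x.c2 + 3 * t ^ 2 * x.c1 + t ^ 3 * x.c0,
   x.d0,
   x.d1 + t * x.d0,
   x.d2 + 2 * t * x.d1 + t ^ 2 * x.d0,
   x.d3 + 3 * t * x.d2 + 3 * t ^ 2 * x.d1 + t ^ 3 * x.d0⟩

def X8 (t : F) (x : M F) : M F :=
  ⟨x.p0 - 3 * t * x.d2,
   x.p1 + 6 * t * x.c2 + 12 * t ^ 2 * x.q1 + 8 * t ^ 3 * x.d3,
   x.p2,
   x.q0 + t * x.d2,
   x.q1 + 2 * t * x.d3,
   x.q2 + 4 * t * x.d1 + 4 * t ^ 2 * x.p2,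
   x.c0 + 6 * t * x.q2 + 12 * t ^ 2 * x.d1 + 8 * t ^ 3 * x.p2,
   x.c1 + 2 * t * x.p0 - 2 * t * x.q0 - 4 * t ^ 2 * x.d2,
   x.c2 + 4 * t * x.q1 + 4 * t ^ 2 * x.d3,
   x.c3,
   x.d0,
   x.d1 + 2 * t * x.p2,
   x.d2,
   x.d3⟩

def X9 (t : F) (x : M F) : M F :=
  ⟨x.p0 - 3 * t * x.d1,
   x.p1 + 6 * t * x.c1 - 12 * t ^ 2 * x.q2 - 8 * t ^ 3 * x.d0,
   x.p2,
   x.q0 - t * x.d1,
   x.q1 + 4 * t * x.d2 - 4 * t ^ 2 * x.p2,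
   x.q2 + 2 * t * x.d0,
   x.c0,
   x.c1 - 4 * t * x.q2 - 4 * t ^ 2 * x.d0,
   x.c2 - 2 * t * x.p0 - 2 * t * x.q0 + 4 * t ^ 2 * x.d1,
   x.c3 - 6 * t * x.q1 - 12 * t ^ 2 * x.d2 + 8 * t ^ 3 * x.p2,
   x.d0,
   x.d1,
   x.d2 - 2 * t * x.p2,
   x.d3⟩

def X10 (t : F) (x : M F) : M F :=
  ⟨x.p0 + t * x.d0,
   x.p1 - 2 * t * x.c0,
   x.p2,
   x.q0 + t * x.d0,
   x.q1 - 2 * t * x.d1,
   x.q2,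
   x.c0,
   x.c1,
   x.c2 - 2 * t * x.q2,
   x.c3 - 2 * t * x.p0 - 6 * t * x.q0 - 4 * t ^ 2 * x.d0,
   x.d0,
   x.d1,
   x.d2,
   x.d3 - 2 * t * x.p2⟩

def X11 (t : F) (x : M F) : M F :=
  ⟨x.p0 + t * x.p2,
   x.p1 - 2 * t * x.p0 - t ^ 2 * x.p2,
   x.p2,
   x.q0,
   x.q1,
   x.q2,
   x.c0 + t * x.d0,
   x.c1 + t * x.d1,
   x.c2 + t * x.d2,
   x.c3 + t * x.d3,
   x.d0,
   x.d1,
   x.d2,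
   x.d3⟩

/-- twice the Lie bracket -/
def br (x y : M F) : M F :=
  ⟨2 * (x.p1 * y.p2 - x.p2 * y.p1) - (x.c0 * y.d3 - x.d3 * y.c0) + 3 * (x.c1 * y.d2 - x.d2 * y.c1) - 3 * (x.c2 * y.d1 - x.d1 * y.c2) + (x.c3 * y.d0 - x.d0 * y.c3),
   4 * (x.p0 * y.p1 - x.p1 * y.p0) + 2 * (x.c0 * y.c3 - x.c3 * y.c0) - 6 * (x.c1 * y.c2 - x.c2 * y.c1),
   -(4 * (x.p0 * y.p2 - x.p2 * y.p0)) - 2 * (x.d0 * y.d3 - x.d3 * y.d0) + 6 * (x.d1 * y.d2 - x.d2 * y.d1),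
   2 * (x.q1 * y.q2 - x.q2 * y.q1) + (x.c0 * y.d3 - x.d3 * y.c0) - (x.c1 * y.d2 - x.d2 * y.c1) - (x.c2 * y.d1 - x.d1 * y.c2) + (x.c3 * y.d0 - x.d0 * y.c3),
   4 * (x.q0 * y.q1 - x.q1 * y.q0) - 2 * (x.c1 * y.d3 - x.d3 * y.c1) + 4 * (x.c2 * y.d2 - x.d2 * y.c2) - 2 * (x.c3 * y.d1 - x.d1 * y.c3),
   -(4 * (x.q0 * y.q2 - x.q2 * y.q0)) + 2 * (x.c0 * y.d2 - x.d2 * y.c0) - 4 * (x.c1 * y.d1 - x.d1 * y.c1) + 2 * (x.c2 * y.d0 - x.d0 * y.c2),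
   2 * (x.p0 * y.c0 - x.c0 * y.p0) + 2 * (x.p1 * y.d0 - x.d0 * y.p1) - 6 * (x.q0 * y.c0 - x.c0 * y.q0) + 6 * (x.q2 * y.c1 - x.c1 * y.q2),
   2 * (x.p0 * y.c1 - x.c1 * y.p0) + 2 * (x.p1 * y.d1 - x.d1 * y.p1) - 2 * (x.q0 * y.c1 - x.c1 * y.q0) + 2 * (x.q1 * y.c0 - x.c0 * y.q1) + 4 * (x.q2 * y.c2 - x.c2 * y.q2),
   2 * (x.p0 * y.c2 - x.c2 * y.p0) + 2 * (x.p1 * y.d2 - x.d2 * y.p1) + 2 * (x.q0 * y.c2 - x.c2 * y.q0) + 4 * (x.q1 * y.c1 - x.c1 * y.q1) + 2 * (x.q2 * y.c3 - x.c3 * y.q2),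
   2 * (x.p0 * y.c3 - x.c3 * y.p0) + 2 * (x.p1 * y.d3 - x.d3 * y.p1) + 6 * (x.q0 * y.c3 - x.c3 * y.q0) + 6 * (x.q1 * y.c2 - x.c2 * y.q1),
   -(2 * (x.p0 * y.d0 - x.d0 * y.p0)) + 2 * (x.p2 * y.c0 - x.c0 * y.p2) - 6 * (x.q0 * y.d0 - x.d0 * y.q0) + 6 * (x.q2 * y.d1 - x.d1 * y.q2),
   -(2 * (x.p0 * y.d1 - x.d1 * y.p0)) + 2 * (x.p2 * y.c1 - x.c1 * y.p2) - 2 * (x.q0 * y.d1 - x.d1 * y.q0) + 2 * (x.q1 * y.d0 - x.d0 * y.q1) + 4 * (x.q2 * y.d2 - x.d2 * y.q2),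
   -(2 * (x.p0 * y.d2 - x.d2 * y.p0)) + 2 * (x.p2 * y.c2 - x.c2 * y.p2) + 2 * (x.q0 * y.d2 - x.d2 * y.q0) + 4 * (x.q1 * y.d1 - x.d1 * y.q1) + 2 * (x.q2 * y.d3 - x.d3 * y.q2),
   -(2 * (x.p0 * y.d3 - x.d3 * y.p0)) + 2 * (x.p2 * y.c3 - x.c3 * y.p2) + 6 * (x.q0 * y.d3 - x.d3 * y.q0) + 6 * (x.q1 * y.d2 - x.d2 * y.q1)⟩

theorem br_X0 (t : F) (x y : M F) : br (X0 t x) (X0 t y) = X0 t (br x y) := by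
  ext <;> simp only [br, X0] <;> ring

theorem br_X1 (t : F) (x y : M F) : br (X1 t x) (X1 t y) = X1 t (br x y) := by
  ext <;> simp only [br, X1] <;> ring

theorem br_X2 (t : F) (x y : M F) : br (X2 t x) (X2 t y) = X2 t (br x y) := by
  ext <;> simp only [br, X2] <;> ring

theorem br_X3 (t : F) (x y : M F) : br (X3 t x) (X3 t y) = X3 t (br x y) := by
  ext <;> simp only [br, X3] <;> ring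

theorem br_X4 (t : F) (x y : M F) : br (X4 t x) (X4 t y) = X4 t (br x y) := by
  ext <;> simp only [br, X4] <;> ring

theorem br_X5 (t : F) (x y : M F) : br (X5 t x) (X5 t y) = X5 t (br x y) := by
  ext <;> simp only [br, X5] <;> ring

theorem br_X6 (t : F) (x y : M F) : br (X6 t x) (X6 t y) = X6 t (br x y) := by
  ext <;> simp only [br, X6] <;> ring

theorem br_X7 (t : F) (x y : M F) : br (X7 t x) (X7 t y) = X7 t (br x y) := by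
  ext <;> simp only [br, X7] <;> ring

theorem br_X8 (t : F) (x y : M F) : br (X8 t x) (X8 t y) = X8 t (br x y) := by
  ext <;> simp only [br, X8] <;> ring

theorem br_X9 (t : F) (x y : M F) : br (X9 t x) (X9 t y) = X9 t (br x y) := by
  ext <;> simp only [br, X9] <;> ring

theorem br_X10 (t : F) (x y : M F) : br (X10 t x) (X10 t y) = X10 t (br x y) := by
  ext <;> simp only [br, X10] <;> ring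

theorem br_X11 (t : F) (x y : M F) : br (X11 t x) (X11 t y) = X11 t (br x y) := by
  ext <;> simp only [br, X11] <;> ring

end G2
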